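import Groth.Agent.RelSpecLib.Gen
import Groth.Agent.RelSpecLib.Basic
import Groth.Agent.ProjBundleLib.DegOne
import Groth.Agent.ProjBundleLib.FTSub
import Groth.Agent.ProjBundleLib.Tensor
import Groth.Agent.AffCritLib.QuasiAff
import Groth.Prelude.Def_Mor2

/-! A quasi-affine morphism of finite type immerses into an affine morphism of finite type. -/

set_option autoImplicit false
set_option linter.style.haveILetI false
set_option backward.isDefEq.respectTransparency false

universe u

open CategoryTheory CategoryTheory.Limits AlgebraicGeometry TopologicalSpace Opposite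

noncomputable section

namespace Groth.Agent.QAffFactLib

variable {X Y : Scheme.{u}} (f : X ⟶ Y)

/-- The affine basic opens of a quasi-affine preimage form a cover. -/
theorem exists_basicOpen (hf : Mor2.IsQuasiAffine f) {V : Y.Opens} (hV : IsAffineOpen V) {x : X} (hx : f x ∈ V) :
    ∃ a : Γ(X, f ⁻¹ᵁ V), IsAffineOpen (X.basicOpen a) ∧ x ∈ X.basicOpen a := by
  haveI := hf.2 V hV
  obtain ⟨_, ⟨_, ⟨r, hr, rfl⟩, rfl⟩, hxr, -⟩ := ((Scheme.IsQuasiAffine.isBasis_basicOpen (f ⁻¹ᵁ V).toScheme)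
    |>.exists_subset_of_mem_open (Set.mem_univ (⟨x, hx⟩ : (f ⁻¹ᵁ V).toScheme)) isOpen_univ)
  have e : X.basicOpen ((f ⁻¹ᵁ V).topIso.hom r) = (f ⁻¹ᵁ V).ι ''ᵁ ((f ⁻¹ᵁ V).toScheme.basicOpen r) := by
    rw [Scheme.image_basicOpen, Scheme.Opens.ι_appIso, Scheme.Opens.topIso_hom]
    exact X.basicOpen_res_eq r _
  refine ⟨(f ⁻¹ᵁ V).topIso.hom r, ?_, ?_⟩
  · rw [e]; exact hr.image_of_isOpenImmersion _
  · rw [e]; exact ⟨⟨x, hx⟩, hxr, rfl⟩

/-- Finitely many numerators of a finite set of sections over a basic open. -/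
theorem exists_numerators [QuasiCompact f] [QuasiSeparated f] [LocallyOfFiniteType f] {V : Y.Opens}
    (hV : IsAffineOpen V) (a : Γ(X, f ⁻¹ᵁ V)) (ha : IsAffineOpen (X.basicOpen a)) :
    ∃ S : Finset Γ(X, f ⁻¹ᵁ V), ∀ R : Subring Γ(X, X.basicOpen a),
      (∀ b ∈ S, (X.presheaf.map (homOfLE (X.basicOpen_le a)).op).hom b ∈ R) →
      (∀ r : Γ(Y, V), (f.appLE V (X.basicOpen a) (X.basicOpen_le a)).hom r ∈ R) →
      (∀ z, (X.presheaf.map (homOfLE (X.basicOpen_le a)).op).hom a * z ∈ R → z ∈ R) → R = ⊤ := by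
  classical
  have h := HasRingHomProperty.appLE (P := @LocallyOfFiniteType) f inferInstance ⟨V, hV⟩
    ⟨X.basicOpen a, ha⟩ (X.basicOpen_le a)
  letI := (f.appLE V (X.basicOpen a) (X.basicOpen_le a)).hom.toAlgebra
  haveI : Algebra.FiniteType Γ(Y, V) Γ(X, X.basicOpen a) := h
  obtain ⟨c, hc⟩ := (Algebra.FiniteType.out : (⊤ : Subalgebra Γ(Y, V) Γ(X, X.basicOpen a)).FG)
  letI : Algebra Γ(X, f ⁻¹ᵁ V) Γ(X, X.basicOpen a) :=
    (X.presheaf.map (homOfLE (X.basicOpen_le a)).op).hom.toAlgebra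
  haveI : IsLocalization.Away a Γ(X, X.basicOpen a) :=
    isLocalization_basicOpen_of_qcqs (f.isCompact_preimage hV.isCompact)
      (f.isQuasiSeparated_preimage hV.isQuasiSeparated) a
  choose n b hb using fun z => IsLocalization.Away.surj (S := Γ(X, X.basicOpen a)) a z
  refine ⟨c.image b, fun R h1 h2 h3 => eq_top_iff.mpr fun z _ => ?_⟩
  have hpow : ∀ (m : ℕ) w, (X.presheaf.map (homOfLE (X.basicOpen_le a)).op).hom a ^ m * w ∈ R → w ∈ R := by
    intro m
    induction m with
    | zero => intro w hw; simpa using hw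
    | succ m ih => intro w hw; exact h3 w (ih _ (by rwa [pow_succ, mul_assoc] at hw))
  have hle : Algebra.adjoin Γ(Y, V) (c : Set Γ(X, X.basicOpen a)) ≤
      { R with algebraMap_mem' := h2 } := Algebra.adjoin_le fun w hw => by
    refine hpow (n w) w ?_
    rw [mul_comm]
    exact (hb w).symm ▸ h1 _ (Finset.mem_image_of_mem b (Finset.mem_coe.mp hw))
  exact hle (hc ▸ Algebra.mem_top : z ∈ Algebra.adjoin Γ(Y, V) (c : Set Γ(X, X.basicOpen a)))

variable [QuasiCompact f] [QuasiSeparated f] {G : Y.Modules} [Coh.IsQCoh G]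
  (i : G ⟶ (RelSpec.QCAlg.directImage f).toModule)

/-- The map to the spectrum of the generated subalgebra. -/
def toSub : X ⟶ (RelSpecLib.subAlg (RelSpec.QCAlg.directImage f) i).spec :=
  RelSpecLib.lift _ f (RelSpecLib.subIncl (RelSpec.QCAlg.directImage f) i).hom

theorem toSub_π : toSub f i ≫ (RelSpecLib.subAlg (RelSpec.QCAlg.directImage f) i).π = f :=
  RelSpecLib.lift_π _ f _ (RelSpecLib.subIncl (RelSpec.QCAlg.directImage f) i).comm

theorem exists_appLE_eq (V : Y.Opens) (hV : IsAffineOpen V) (b : Γ(X, f ⁻¹ᵁ V))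
    (hb : b ∈ RelSpecLib.sub (RelSpec.QCAlg.directImage f) i V) :
    ∃ s : Γ((RelSpecLib.subAlg (RelSpec.QCAlg.directImage f) i).spec,
        (RelSpecLib.subAlg (RelSpec.QCAlg.directImage f) i).π ⁻¹ᵁ V),
      (toSub f i).appLE _ (f ⁻¹ᵁ V) (RelSpecLib.preimage_le _ f (toSub_π f i) V) s = b := by
  let B := RelSpecLib.subAlg (RelSpec.QCAlg.directImage f) i
  haveI : IsIso (B.gammaAff V hV) := SpecQCAlg.isIso_gammaAff B V hV
  let b' : B.presheaf.obj (op V) := ⟨b, hb⟩
  refine ⟨inv (B.gammaAff V hV) b', ?_⟩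
  have h := RelSpecLib.gammaAff_algMap B f (toSub f i) (toSub_π f i) V hV
  have h2 := RelSpecLib.algMap_lift B f (RelSpecLib.subIncl (RelSpec.QCAlg.directImage f) i).hom
    (RelSpecLib.subIncl (RelSpec.QCAlg.directImage f) i).comm
  rw [← h]
  show ((RelSpecLib.algMap B f (toSub f i) (toSub_π f i)).app (op V)).hom
    ((B.gammaAff V hV).hom ((inv (B.gammaAff V hV)).hom b')) = b
  have e : (B.gammaAff V hV).hom ((inv (B.gammaAff V hV)).hom b') = b' := IsIso.inv_hom_id_apply _ _
  rw [e, show (RelSpecLib.algMap B f (toSub f i) (toSub_π f i)) =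
    (RelSpecLib.subIncl (RelSpec.QCAlg.directImage f) i).hom from h2]
  rfl

theorem locallyOfFiniteType_π (hG : CohB1.IsFT G) :
    LocallyOfFiniteType (RelSpecLib.subAlg (RelSpec.QCAlg.directImage f) i).π := by
  classical
  let A := RelSpec.QCAlg.directImage f
  let B := RelSpecLib.subAlg A i
  refine IsZariskiLocalAtTarget.of_iSup_eq_top (fun V : Y.affineOpens => (V : Y.Opens)) (iSup_affineOpens_eq_top Y)
    fun V => ?_
  haveI : IsAffine (V : Y.Opens).toScheme := V.2
  haveI : IsAffine (B.π ⁻¹ᵁ (V : Y.Opens)).toScheme := RelSpecLib.isAffineOpen_preimage B V.1 V.2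
  haveI : IsIso (B.gammaAff V.1 V.2) := SpecQCAlg.isIso_gammaAff B V.1 V.2
  rw [HasRingHomProperty.iff_of_isAffine (P := @LocallyOfFiniteType), morphismRestrict_appTop]
  have key : (B.str.app (op V.1)).hom.FiniteType := by
    haveI := QCohLib.finite_sections G hG V.2
    obtain ⟨t, ht⟩ := Module.Finite.fg_top (R := Γ(Y, V.1)) (M := Γ(G, V.1))
    letI := (B.str.app (op V.1)).hom.toAlgebra
    let j' : Γ(G, V.1) → B.presheaf.obj (op V.1) := fun g =>
      ⟨RelSpecLib.jsec A i g, RelSpecLib.jsec_mem_sub A i g⟩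
    refine ⟨⟨t.image j', eq_top_iff.mpr fun z _ => ?_⟩⟩
    let φ : B.presheaf.obj (op V.1) →+* A.presheaf.obj (op V.1) := (RelSpecLib.sub A i V.1).subtype
    let R := (Algebra.adjoin Γ(Y, V.1) (↑(t.image j') : Set (B.presheaf.obj (op V.1)))).toSubring.map φ
    have hR : RelSpecLib.gen A i V.1 ≤ R := by
      refine Subring.closure_le.mpr ?_
      rintro _ (⟨r, rfl⟩ | ⟨g, rfl⟩)
      · exact ⟨(B.str.app (op V.1)).hom r, Subalgebra.algebraMap_mem _ r, rfl⟩
      · have hg : g ∈ Submodule.span Γ(Y, V.1) (t : Set Γ(G, V.1)) := ht ▸ Submodule.mem_top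
        induction hg using Submodule.span_induction with
        | mem g hg => exact ⟨j' g, Algebra.subset_adjoin (Finset.mem_image_of_mem j' hg), rfl⟩
        | zero =>
          rw [show RelSpecLib.jsec A i (0 : Γ(G, V.1)) = 0 from map_zero (i.app V.1).hom]
          exact R.zero_mem
        | add a b _ _ ha hb =>
          rw [show RelSpecLib.jsec A i (a + b) = RelSpecLib.jsec A i a + RelSpecLib.jsec A i b from
            map_add (i.app V.1).hom a b]
          exact R.add_mem ha hb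
        | smul r a _ ha =>
          rw [RelSpecLib.jsec_smul]
          exact R.mul_mem ⟨(B.str.app (op V.1)).hom r, Subalgebra.algebraMap_mem _ r, rfl⟩ ha
    obtain ⟨w, hw, hwz⟩ := hR ((RelSpecLib.sub_affine A i V.2).mp z.2)
    rwa [show w = z from Subtype.ext hwz] at hw
  have hcomp : (B.π.app V.1 ≫ B.gammaAff V.1 V.2) = B.str.app (op V.1) := B.π_app_gammaAff V.1 V.2
  have h2 : (B.π.app V.1).hom.FiniteType := by
    rw [show B.π.app V.1 = B.str.app (op V.1) ≫ inv (B.gammaAff V.1 V.2) by rw [← hcomp]; simp]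
    exact RingHom.FiniteType.comp (RingHom.FiniteType.of_surjective _
      (ConcreteCategory.bijective_of_isIso (inv (B.gammaAff V.1 V.2))).2) key
  have hV' : ∀ W : Y.Opens, W = V.1 → (B.π.app W).hom.FiniteType := fun W hW => by subst hW; exact h2
  exact RingHom.finiteType_respectsIso.1 _
    (B.spec.presheaf.mapIso (eqToIso (image_morphismRestrict_preimage B.π V.1 ⊤)).op).commRingCatIsoToRingEquiv
    (hV' _ (Scheme.Opens.ι_image_top _))

variable {f}

/-- A quasi-affine morphism of finite type immerses into an affine morphism of finite type. -/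
theorem exists_factor {X Y : Scheme.{u}} [CompactSpace Y] [QuasiSeparatedSpace Y] (f : X ⟶ Y)
    (hf : Mor2.IsQuasiAffine f) [LocallyOfFiniteType f] :
    ∃ (X'' : Scheme.{u}) (g : X'' ⟶ Y) (j : X ⟶ X''),
      IsAffineHom g ∧ LocallyOfFiniteType g ∧ IsImmersion j ∧ j ≫ g = f := by
  classical
  haveI := hf.1
  haveI := AffCritLib.isSeparated_of_isQuasiAffine f hf
  haveI : CompactSpace X := QuasiCompact.compactSpace_of_compactSpace f
  have hpt : ∀ x : X, ∃ (V : Y.affineOpens) (a : Γ(X, f ⁻¹ᵁ V.1)),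
      IsAffineOpen (X.basicOpen a) ∧ x ∈ X.basicOpen a := fun x => by
    obtain ⟨_, ⟨V, hV, rfl⟩, hxV, -⟩ :=
      Y.isBasis_affineOpens.exists_subset_of_mem_open (Set.mem_univ (f x)) isOpen_univ
    obtain ⟨a, ha, hxa⟩ := exists_basicOpen f hf hV hxV
    exact ⟨⟨V, hV⟩, a, ha, hxa⟩
  choose V a ha hxa using hpt
  obtain ⟨t, ht⟩ := isCompact_univ.elim_finite_subcover (fun x : X => ((X.basicOpen (a x) : X.Opens) : Set X))
    (fun x => (X.basicOpen (a x)).isOpen) fun x _ => Set.mem_iUnion.mpr ⟨x, hxa x⟩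
  choose S hS using fun x : X => exists_numerators f (V x).2 (a x) (ha x)
  let A := RelSpec.QCAlg.directImage f
  haveI : Coh.IsQCoh A.toModule := ProjBundleLib.isQCoh_toModule A
  let S' : ∀ x : X, Finset Γ(X, f ⁻¹ᵁ (V x).1) := fun x => insert (a x) (S x)
  obtain ⟨G, i, hG, hft, -, hmem⟩ := ProjBundleLib.exists_ft_through (M := A.toModule)
    (ι := Σ x : t, {b // b ∈ S' x.1}) (fun k => (V k.1.1).1) (fun k => (V k.1.1).2) (fun k => k.2.1)
  have hsub : ∀ (x : t), ∀ b ∈ S' x.1, b ∈ RelSpecLib.sub A i (V x.1).1 := fun x b hb => by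
    obtain ⟨g, hg⟩ := hmem ⟨x, b, hb⟩
    have := RelSpecLib.jsec_mem_sub A i g
    rwa [show RelSpecLib.jsec A i g = b from hg] at this
  let B := RelSpecLib.subAlg A i
  have hAff : IsAffineHom B.π := ⟨fun U hU => RelSpecLib.isAffineOpen_preimage B U hU⟩
  refine ⟨B.spec, B.π, toSub f i, hAff, locallyOfFiniteType_π f i hft, ?_, toSub_π f i⟩
  choose σ hσ using fun x : t => exists_appLE_eq f i (V x.1).1 (V x.1).2 (a x.1)
    (hsub x _ (Finset.mem_insert_self _ _))
  let O : t → B.spec.Opens := fun x => B.spec.basicOpen (σ x)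
  have hpre : ∀ x, toSub f i ⁻¹ᵁ O x = X.basicOpen (a x.1) := fun x => by
    have h := Scheme.basicOpen_appLE (toSub f i) (f ⁻¹ᵁ (V x.1).1) _
      (RelSpecLib.preimage_le _ f (toSub_π f i) (V x.1).1) (σ x)
    rw [hσ x] at h
    rw [h]
    refine (inf_eq_right.mpr ?_).symm
    intro z hz
    have h2 : B.π (toSub f i z) ∈ (V x.1).1 := B.spec.basicOpen_le (σ x) hz
    rw [← Scheme.Hom.comp_apply, toSub_π] at h2
    exact h2
  refine ProjBundleLib.isImmersion_of_cover _ O (fun z => ?_) fun x => ?_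
  · obtain ⟨x, hx, hzx⟩ := Set.mem_iUnion₂.mp (ht (Set.mem_univ z))
    refine ⟨⟨x, hx⟩, ?_⟩
    show z ∈ toSub f i ⁻¹ᵁ O ⟨x, hx⟩
    rw [hpre]
    exact hzx
  · haveI : IsAffine (O x).toScheme :=
      (RelSpecLib.isAffineOpen_preimage B (V x.1).1 (V x.1).2).basicOpen (σ x)
    haveI : IsAffine (toSub f i ⁻¹ᵁ O x).toScheme := by rw [hpre]; exact ha x.1
    haveI : IsClosedImmersion (toSub f i ∣_ O x) := by
      refine IsClosedImmersion.of_surjective_of_isAffine _ ?_
      have hleX : X.basicOpen (a x.1) ≤ toSub f i ⁻¹ᵁ O x := (hpre x).ge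
      have hsur : Function.Surjective ((toSub f i).appLE (O x) (X.basicOpen (a x.1)) hleX) := by
        rw [← RingHom.range_eq_top]
        have k : ∀ s, ((toSub f i).appLE (O x) (X.basicOpen (a x.1)) hleX).hom
            ((B.spec.presheaf.map (homOfLE (B.spec.basicOpen_le (σ x))).op).hom s) =
            (X.presheaf.map (homOfLE (X.basicOpen_le (a x.1))).op).hom
              (((toSub f i).appLE _ (f ⁻¹ᵁ (V x.1).1) (RelSpecLib.preimage_le _ f (toSub_π f i) (V x.1).1)).hom s) :=
          fun s => by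
            rw [← CommRingCat.comp_apply, ← CommRingCat.comp_apply, Scheme.Hom.map_appLE, Scheme.Hom.appLE_map]
        let R := ((toSub f i).appLE (O x) (X.basicOpen (a x.1)) hleX).hom.range
        have hres : ∀ b, b ∈ RelSpecLib.sub A i (V x.1).1 →
            (X.presheaf.map (homOfLE (X.basicOpen_le (a x.1))).op).hom b ∈ R := fun b hb => by
          obtain ⟨s, hs⟩ := exists_appLE_eq f i (V x.1).1 (V x.1).2 b hb
          refine ⟨(B.spec.presheaf.map (homOfLE (B.spec.basicOpen_le (σ x))).op).hom s, ?_⟩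
          exact (k s).trans (congrArg _ hs)
        refine hS x.1 R (fun b hb => hres b (hsub x b (Finset.mem_insert_of_mem hb))) (fun r => ?_) fun z hz => ?_
        · have hr : (f.app (V x.1).1).hom r ∈ RelSpecLib.sub A i (V x.1).1 := RelSpecLib.str_mem_sub A i r
          exact hres _ hr
        · obtain ⟨w, hw⟩ := hz
          have hu : IsUnit ((B.spec.presheaf.map (homOfLE (B.spec.basicOpen_le (σ x))).op).hom (σ x)) :=
            RingedSpace.isUnit_res_basicOpen B.spec.toRingedSpace (σ x)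
          obtain ⟨v, hv⟩ := hu.exists_right_inv
          refine ⟨v * w, ?_⟩
          have h1 := (k (σ x)).trans (congrArg _ (hσ x))
          have h2 := congrArg ((toSub f i).appLE (O x) (X.basicOpen (a x.1)) hleX).hom hv
          erw [map_mul, map_one, h1] at h2
          rw [map_mul, hw, mul_left_comm, ← mul_assoc, h2, one_mul]
      rw [morphismRestrict_appTop]
      have hgen : ∀ (W : B.spec.Opens) (e : X.basicOpen (a x.1) = toSub f i ⁻¹ᵁ W), W = O x →
          Function.Surjective ((toSub f i).app W) := fun W e hW => by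
        subst hW
        intro z
        obtain ⟨w, hw⟩ := hsur ((X.presheaf.map (eqToHom e).op).hom z)
        refine ⟨w, (ConcreteCategory.bijective_of_isIso (X.presheaf.map (eqToHom e).op)).1 (hw ▸ ?_)⟩
        rw [Scheme.Hom.appLE, CommRingCat.comp_apply]
        rfl
      refine (ConcreteCategory.bijective_of_isIso (X.presheaf.map _)).2.comp ?_
      refine hgen _ ?_ (Scheme.Opens.ι_image_top _)
      rw [Scheme.Opens.ι_image_top, hpre]
    infer_instance

end Groth.Agent.QAffFactLib
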